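import Groth.Agent.Lib.GrAB27.Ext
import Groth.Agent.Lib.GrSyz.PD
import Groth.Agent.Lib.GrSyz.Length
import Groth.Agent.Lib.GrSyz.Tor
import Groth.Agent.Lib.Depth.Local
import Groth.Agent.Lib.LCI6.Field
import Groth.Agent.Lib.CatCM.Basic
import Groth.Agent.Lib.FiniteQuot.DepthDescent

/-!
# The graded Auslander–Buchsbaum formula
-/

set_option autoImplicit false

universe u

open MvPolynomial

namespace GrothLib.GrAB27

open GrothLib.GrSyz

variable {k : Type u} [Field k] {n : ℕ}


theorem idealDepth_irrel : LocCoh.idealDepth (GrSyz.irrel (GrSyz.stdGr k (Fin n))).toIdeal (MvPolynomial (Fin n) k) = (n : ℕ∞) := by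
  haveI := irrel_isMaximal (k := k) (n := n)
  haveI : (GrSyz.irrel (GrSyz.stdGr k (Fin n))).toIdeal.IsPrime := Ideal.IsMaximal.isPrime inferInstance
  haveI : LocCoh.IsCohenMacaulayRing (MvPolynomial (Fin n) k) := CatCM.isCohenMacaulayRing_of_isRegularRing _
  haveI : LocCoh.IsCohenMacaulayLocalRing (Localization.AtPrime (GrSyz.irrel (GrSyz.stdGr k (Fin n))).toIdeal) :=
    LocCoh.IsCohenMacaulayRing.isCohenMacaulayLocalRing_localization (GrSyz.irrel (GrSyz.stdGr k (Fin n))).toIdeal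
  have hdepth : LocCoh.depth (Localization.AtPrime (GrSyz.irrel (GrSyz.stdGr k (Fin n))).toIdeal) (LocalizedModule (GrSyz.irrel (GrSyz.stdGr k (Fin n))).toIdeal.primeCompl (MvPolynomial (Fin n) k)) = (n : ℕ∞) := by
    rw [GrothLib.FiniteQuot.depth_localizedModule_self (GrSyz.irrel (GrSyz.stdGr k (Fin n))).toIdeal (Localization.AtPrime (GrSyz.irrel (GrSyz.stdGr k (Fin n))).toIdeal)]
    have h := LocCoh.IsCohenMacaulayLocalRing.supportDim_eq_depth (R := Localization.AtPrime (GrSyz.irrel (GrSyz.stdGr k (Fin n))).toIdeal)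
    rw [Module.supportDim_self_eq_ringKrullDim, IsLocalization.AtPrime.ringKrullDim_eq_height (GrSyz.irrel (GrSyz.stdGr k (Fin n))).toIdeal,
      GrothLib.LCI6.height_eq_of_isMaximal] at h
    exact (WithBot.coe_injective h).symm
  have hle := (GrothLib.Depth.idealDepth_le_localization (GrSyz.irrel (GrSyz.stdGr k (Fin n))).toIdeal (GrSyz.irrel (GrSyz.stdGr k (Fin n))).toIdeal le_rfl (M := (MvPolynomial (Fin n) k))).trans hdepth.le
  obtain ⟨d, hd⟩ := ENat.ne_top_iff_exists.1 (ne_top_of_le_ne_top (ENat.natCast_ne_top n) hle)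
  obtain ⟨p, hp, hpd⟩ := GrothLib.Depth.exists_depth_localization_le (GrSyz.irrel (GrSyz.stdGr k (Fin n))).toIdeal d hd.symm (M := (MvPolynomial (Fin n) k))
  have hpm : p.asIdeal = (GrSyz.irrel (GrSyz.stdGr k (Fin n))).toIdeal := ((irrel_isMaximal (k := k) (n := n)).eq_of_le p.2.ne_top hp).symm
  obtain rfl : p = ⟨(GrSyz.irrel (GrSyz.stdGr k (Fin n))).toIdeal, inferInstance⟩ := PrimeSpectrum.ext hpm
  rw [hdepth, hd] at hpd
  exact le_antisymm hle hpd

variable {M : Type u} [AddCommGroup M] [Module k M] [Module (MvPolynomial (Fin n) k) M]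
  {ℳ : ℤ → Submodule k M} [DirectSum.Decomposition ℳ] [SetLike.GradedSMul (GrSyz.stdGr k (Fin n)) ℳ]
  (F : GrSyz.FreeRes (GrSyz.stdGr k (Fin n)) ℳ) (hF : F.IsMinimal (GrSyz.irrel (GrSyz.stdGr k (Fin n))).toIdeal)

theorem range_toSyz_ker (i : ℕ) :
    LinearMap.range (syz F (i + 1)).subtype = LinearMap.ker (toSyz F i) := by
  rw [Submodule.range_subtype, toSyz, LinearMap.ker_codRestrict]; rfl

include hF in
theorem syz_entries (i : ℕ) (x : syz F i) (j : Fin (F.rk i)) :
    (x : Fin (F.rk i) → (MvPolynomial (Fin n) k)) j ∈ (GrSyz.irrel (GrSyz.stdGr k (Fin n))).toIdeal := by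
  rw [mem_irrel]
  cases i with
  | zero => exact aug_ker_minimal F hF _ (LinearMap.mem_ker.1 x.2) j
  | succ i => exact d_ker_minimal F hF i _ (LinearMap.mem_ker.1 x.2) j

include hF in
theorem idealDepth_add_length [Module.Finite (MvPolynomial (Fin n) k) M] (ℓ : ℕ) (hℓ : F.HasLengthLE ℓ) (hℓ' : F.rk ℓ ≠ 0) :
    (ℓ : ℕ∞) + LocCoh.idealDepth (GrSyz.irrel (GrSyz.stdGr k (Fin n))).toIdeal M = (n : ℕ∞) := by
  have hℓn : ℓ ≤ n := by
    by_contra h
    exact hℓ' (GrothLib.GrSyz.rk_eq_zero n F.rk F.d (fun i a b => mem_irrel.1 (hF i a b)) F.exact_succ ℓ (by omega))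
  have hS : IsDepth (MvPolynomial (Fin n) k) (GrSyz.irrel (GrSyz.stdGr k (Fin n))).toIdeal (MvPolynomial (Fin n) k) n := isDepth_of_idealDepth_eq (MvPolynomial (Fin n) k) (GrSyz.irrel (GrSyz.stdGr k (Fin n))).toIdeal idealDepth_irrel
  have hbot : syz F ℓ = ⊥ := by
    rw [← range_dLin F ℓ, LinearMap.range_eq_bot]
    refine LinearMap.ext fun v => ?_
    have h0 : F.rk (ℓ + 1) = 0 := hℓ (ℓ + 1) (by omega)
    have : v = 0 := funext fun b => absurd h0 (Nat.pos_iff_ne_zero.1 b.pos)
    rw [this, map_zero]; rfl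
  suffices h : IsDepth (MvPolynomial (Fin n) k) (GrSyz.irrel (GrSyz.stdGr k (Fin n))).toIdeal M (n - ℓ) by
    rw [h.idealDepth_eq, ← Nat.cast_add, Nat.add_sub_cancel' hℓn]
  rcases Nat.eq_zero_or_pos ℓ with rfl | hpos
  · have hinj : Function.Injective F.augLin := LinearMap.ker_eq_bot.1 hbot
    exact isDepth_free (MvPolynomial (Fin n) k) (GrSyz.irrel (GrSyz.stdGr k (Fin n))).toIdeal hS (Nat.pos_of_ne_zero hℓ') (LinearEquiv.ofBijective _ ⟨hinj, F.aug_surjective⟩).symm
  obtain ⟨m, rfl⟩ : ∃ m, ℓ = m + 1 := ⟨ℓ - 1, by omega⟩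
  obtain ⟨D, rfl⟩ : ∃ D, n = D + 1 := ⟨n - 1, by omega⟩
  -- the last syzygy is free
  have hinjm : Function.Injective (toSyz F m) := by
    rw [← LinearMap.ker_eq_bot, ← range_toSyz_ker, hbot, Submodule.range_subtype]
  let eTop := LinearEquiv.ofBijective (toSyz F m) ⟨hinjm, toSyz_surjective F m⟩
  haveI : Module.Free (MvPolynomial (Fin (D + 1)) k) (syz F m) := Module.Free.of_equiv eTop
  haveI : Module.Finite (MvPolynomial (Fin (D + 1)) k) (syz F m) := Module.Finite.equiv eTop
  have htop : IsDepth (MvPolynomial (Fin (D + 1)) k) _ (syz F m) (D + 1) :=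
    isDepth_free _ _ hS (Nat.pos_of_ne_zero hℓ') eTop.symm
  -- descend
  have key : ∀ t i : ℕ, i + t = m → IsDepth (MvPolynomial (Fin (D + 1)) k)
      (GrSyz.irrel (GrSyz.stdGr k (Fin (D + 1)))).toIdeal (syz F i) (D + 1 - t) := by
    intro t
    induction t with
    | zero => intro i hi; obtain rfl : i = m := by omega
              exact htop
    | succ t ih =>
      intro i hi
      have hK := ih (i + 1) (by omega)
      rcases Nat.eq_zero_or_pos t with rfl | ht
      · obtain rfl : i + 1 = m := by omega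
        exact isDepth_top _ _ (syz F (i + 1)).subtype (toSyz F i) Subtype.val_injective (toSyz_surjective F i)
          (range_toSyz_ker F i) hS htop (fun x j => syz_entries F hF _ x j)
      · rw [show D + 1 - t = (D + 1 - (t + 1)) + 1 by omega] at hK
        exact isDepth_step _ _ (syz F (i + 1)).subtype (toSyz F i) Subtype.val_injective (toSyz_surjective F i)
          (range_toSyz_ker F i) hS hK (by omega)
  have h0 := key m 0 (by omega)
  have hrange : LinearMap.range (syz F 0).subtype = LinearMap.ker F.augLin := by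
    rw [Submodule.range_subtype]; rfl
  rcases Nat.eq_zero_or_pos m with rfl | hm
  · exact isDepth_top _ _ (syz F 0).subtype F.augLin Subtype.val_injective F.aug_surjective hrange hS htop
      (fun x j => syz_entries F hF 0 x j)
  · rw [show D + 1 - m = (D + 1 - (m + 1)) + 1 by omega] at h0
    exact isDepth_step _ _ (syz F 0).subtype F.augLin Subtype.val_injective F.aug_surjective hrange hS h0 (by omega)

end GrothLib.GrAB27
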