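import Groth.Agent.Lib.GrAB27.Basic
import Groth.Agent.Lib.AffDom.Formula
import Mathlib.Algebra.Homology.DerivedCategory.Ext.EnoughProjectives

/-!
# The dual of a minimal resolution of a Cohen–Macaulay module
-/

set_option autoImplicit false

universe u

open MvPolynomial CategoryTheory Abelian

namespace GrothLib.GrAB27

open GrothLib.GrSyz

variable {k : Type u} [Field k] {n : ℕ}
variable {M : Type u} [AddCommGroup M] [Module k M] [Module (MvPolynomial (Fin n) k) M]
  {ℳ : ℤ → Submodule k M} [DirectSum.Decomposition ℳ] [SetLike.GradedSMul (GrSyz.stdGr k (Fin n)) ℳ]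
  (F : GrSyz.FreeRes (GrSyz.stdGr k (Fin n)) ℳ)

/-- `Ext^i(M, S) = 0` below the codimension. -/
theorem subsingleton_ext_of_dim_le [Module.Finite (MvPolynomial (Fin n) k) M] [Nontrivial M] (c : ℕ)
    (hc : Module.supportDim (MvPolynomial (Fin n) k) M + (c : ℕ∞) ≤ (n : ℕ∞)) (i : ℕ) (hi : i < c) :
    Subsingleton (Ext (ModuleCat.of (MvPolynomial (Fin n) k) M)
      (ModuleCat.of (MvPolynomial (Fin n) k) (MvPolynomial (Fin n) k)) i) := by
  let I := Module.annihilator (MvPolynomial (Fin n) k) M
  have hIne : I ≠ ⊤ := fun h => by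
    haveI := Module.annihilator_eq_top_iff.1 h
    exact false_of_nontrivial_of_subsingleton M
  have hsmul : I • (⊤ : Submodule (MvPolynomial (Fin n) k) (MvPolynomial (Fin n) k)) ≠ ⊤ := by
    rwa [smul_eq_mul, Ideal.mul_top]
  have hdepth : (c : ℕ∞) ≤ LocCoh.idealDepth I (MvPolynomial (Fin n) k) := by
    by_contra hlt
    push Not at hlt
    obtain ⟨d, hd⟩ := ENat.ne_top_iff_exists.1 (ne_top_of_lt hlt)
    obtain ⟨p, hp, hpd⟩ := GrothLib.Depth.exists_depth_localization_le I d hd.symm (M := MvPolynomial (Fin n) k)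
    haveI : LocCoh.IsCohenMacaulayRing (MvPolynomial (Fin n) k) := CatCM.isCohenMacaulayRing_of_isRegularRing _
    haveI : LocCoh.IsCohenMacaulayLocalRing (Localization.AtPrime p.asIdeal) :=
      LocCoh.IsCohenMacaulayRing.isCohenMacaulayLocalRing_localization p.asIdeal
    rw [GrothLib.FiniteQuot.depth_localizedModule_self p.asIdeal (Localization.AtPrime p.asIdeal)] at hpd
    have h := LocCoh.IsCohenMacaulayLocalRing.supportDim_eq_depth (R := Localization.AtPrime p.asIdeal)
    rw [Module.supportDim_self_eq_ringKrullDim, IsLocalization.AtPrime.ringKrullDim_eq_height p.asIdeal] at h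
    have hdim : ringKrullDim ((MvPolynomial (Fin n) k) ⧸ p.asIdeal) ≤ Module.supportDim (MvPolynomial (Fin n) k) M := by
      rw [Module.supportDim_eq_ringKrullDim_quotient_annihilator]
      exact ringKrullDim_le_of_surjective (Ideal.Quotient.factor hp) (Ideal.Quotient.factor_surjective hp)
    have hf := GrothLib.AffDom.height_add_ringKrullDim_quotient k (MvPolynomial (Fin n) k) p.asIdeal
    rw [MvPolynomial.ringKrullDim_of_isNoetherianRing, ringKrullDim_eq_zero_of_field, h] at hf
    simp only [Nat.card_fin, zero_add] at hf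
    revert hpd hdim hf hc
    generalize LocCoh.depth (Localization.AtPrime p.asIdeal) (Localization.AtPrime p.asIdeal) = h'
    generalize ringKrullDim ((MvPolynomial (Fin n) k) ⧸ p.asIdeal) = q
    generalize Module.supportDim (MvPolynomial (Fin n) k) M = m
    intro hc hpd hdim hf
    have hdc : d < c := by rw [← hd] at hlt; exact_mod_cast hlt
    induction q with
    | bot => simp at hf
    | coe q =>
      induction m with
      | bot => simp at hdim
      | coe m =>
        rw [← WithBot.coe_add, WithBot.coe_le_coe] at hc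
        rw [← WithBot.coe_natCast, ← WithBot.coe_add, WithBot.coe_inj] at hf
        rw [WithBot.coe_le_coe] at hdim
        induction m with
        | top => simp at hc
        | coe m =>
          induction q with
          | top => simp at hdim
          | coe q =>
            induction h' with
            | top => simp at hpd
            | coe h' =>
              norm_cast at hc hf hpd hdim
              omega
  obtain ⟨rs, hlen, hmem, hreg⟩ := (GrothLib.Depth.le_idealDepth_iff_exists I hsmul c).1 hdepth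
  exact ModuleCat.subsingleton_ext_of_exists_isRegular I (ModuleCat.of _ M)
    (Module.support_eq_zeroLocus.subset) (ModuleCat.of _ (MvPolynomial (Fin n) k))
    (lt_top_iff_ne_top.2 hsmul) rs hmem (GrothLib.Depth.isRegular_of_isWeaklyRegular I hsmul hreg hmem) i (hlen ▸ hi)

variable {R : Type u} [CommRing R] {r : ℕ} {K N Y : Type u} [AddCommGroup K] [Module R K]
  [AddCommGroup N] [Module R N] [AddCommGroup Y] [Module R Y]
  (f : K →ₗ[R] (Fin r → R)) (g : (Fin r → R) →ₗ[R] N)
  (hf : Function.Injective f) (hg : Function.Surjective g) (hfg : LinearMap.range f = LinearMap.ker g)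

include hf hg hfg

theorem ext_shift (j : ℕ) (h : Subsingleton (Ext (ModuleCat.of R N) (ModuleCat.of R Y) (j + 2))) :
    Subsingleton (Ext (ModuleCat.of R K) (ModuleCat.of R Y) (j + 1)) := by
  refine subsingleton_of_forall_eq 0 fun x => ?_
  have hS := seq_shortExact R f g hf hg hfg
  obtain ⟨x₂, hx₂⟩ := Ext.contravariant_sequence_exact₁ hS (ModuleCat.of R Y) x (n₁ := j + 2) (by omega)
    (Subsingleton.elim (α := Ext (ModuleCat.of R N) (ModuleCat.of R Y) (j + 2)) _ _)
  haveI : Projective (seq R f g hfg).X₂ := inferInstanceAs (Projective (ModuleCat.of R (Fin r → R)))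
  rw [← hx₂, Ext.eq_zero_of_projective x₂, Ext.comp_zero]
  rfl

theorem exists_extension (h : Subsingleton (Ext (ModuleCat.of R N) (ModuleCat.of R Y) 1)) (ψ : K →ₗ[R] Y) :
    ∃ Φ : (Fin r → R) →ₗ[R] Y, Φ ∘ₗ f = ψ := by
  have hS := seq_shortExact R f g hf hg hfg
  obtain ⟨x₂, hx₂⟩ := Ext.contravariant_sequence_exact₁ hS (ModuleCat.of R Y)
    (Ext.mk₀ (X := ModuleCat.of R K) (ModuleCat.ofHom ψ)) (n₁ := 1) (by omega)
    (Subsingleton.elim (α := Ext (ModuleCat.of R N) (ModuleCat.of R Y) 1) _ _)
  refine ⟨(Ext.addEquiv₀ x₂).hom, ?_⟩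
  rw [← Ext.mk₀_addEquiv₀_apply x₂, Ext.mk₀_comp_mk₀] at hx₂
  exact congrArg ModuleCat.Hom.hom ((Ext.mk₀_bijective _ _).1 hx₂)

end GrothLib.GrAB27
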