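import Groth.Agent.Lib.Depth.Basic
import Mathlib

/-!
# Depth along an exact sequence with free middle term
-/

universe u

open CategoryTheory Abelian

namespace GrothLib.GrAB27

variable (R : Type u) [CommRing R] (I : Ideal R)

local notation "kk" => ModuleCat.of R (R ⧸ I)

/-- vanishing of `Ext^i(k, M)` -/
abbrev Van (M : Type u) [AddCommGroup M] [Module R M] (i : ℕ) : Prop :=
  Subsingleton (Ext (kk) (ModuleCat.of R M) i)

theorem smul_ext_eq_zero {a : R} (ha : a ∈ I) {Y : ModuleCat.{u} R} {i : ℕ} (x : Ext (kk) Y i) :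
    a • x = 0 := by
  have h0 : a • 𝟙 (kk) = 0 := by
    apply ModuleCat.hom_ext
    refine LinearMap.ext fun (y : R ⧸ I) => ?_
    show a • y = 0
    rw [Algebra.smul_def, Ideal.Quotient.algebraMap_eq, Ideal.Quotient.eq_zero_iff_mem.2 ha, zero_mul]
  conv_lhs => rw [← Ext.mk₀_id_comp x]
  rw [← Ext.smul_comp, ← Ext.mk₀_smul, h0, Ext.mk₀_zero, Ext.zero_comp]

/-- A map of finite free modules with matrix entries in the maximal ideal kills `Ext^i(k, ·)`. -/
theorem comp_eq_zero_of_entries {K : Type u} [AddCommGroup K] [Module R K] [Module.Finite R K] [Module.Free R K] {n : ℕ}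
    (f : K →ₗ[R] (Fin n → R)) (hf : ∀ x j, f x j ∈ I) {i : ℕ}
    (x : Ext (kk) (ModuleCat.of R K) i) :
    x.comp (Ext.mk₀ (ModuleCat.ofHom f)) (add_zero i) = 0 := by
  classical
  let b := Module.Free.chooseBasis R K
  have hdec : ModuleCat.ofHom f = ∑ p : Module.Free.ChooseBasisIndex R K × Fin n,
      (f (b p.1) p.2) • ModuleCat.ofHom ((b.coord p.1).smulRight (Pi.single p.2 (1 : R) : Fin n → R)) := by
    apply ModuleCat.hom_ext
    refine b.ext fun l => funext fun j => ?_
    rw [ModuleCat.hom_sum, LinearMap.sum_apply, Finset.sum_apply, Finset.sum_eq_single (l, j)]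
    · simp
    · rintro ⟨l', j'⟩ _ hne
      by_cases hl : l' = l
      · subst hl
        have : j ≠ j' := fun h => hne (by rw [h])
        simp [Pi.single_apply, this]
      · simp [Finsupp.single_eq_of_ne hl]
    · simp
  rw [hdec]
  have hlin : ∀ (g : (Module.Free.ChooseBasisIndex R K × Fin n) → (ModuleCat.of R K ⟶ ModuleCat.of R (Fin n → R))),
      x.comp (Ext.mk₀ (∑ p, g p)) (add_zero i) = ∑ p, x.comp (Ext.mk₀ (g p)) (add_zero i) := fun g =>
    map_sum (((Ext.bilinearCompOfLinear R (kk) (ModuleCat.of R K) (ModuleCat.of R (Fin n → R)) i 0 i (add_zero i)) x).comp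
      (Ext.linearEquiv₀ (R := R)).symm.toLinearMap) g Finset.univ
  rw [hlin]
  refine Finset.sum_eq_zero fun p _ => ?_
  rw [Ext.mk₀_smul, Ext.comp_smul]
  exact smul_ext_eq_zero R I (hf _ _) _

theorem van_of_retract {M N : Type u} [AddCommGroup M] [Module R M] [AddCommGroup N] [Module R N]
    (f : M →ₗ[R] N) (g : N →ₗ[R] M) (h : ∀ x, g (f x) = x) {i : ℕ} (hN : Van R I N i) : Van R I M i := by
  refine ⟨fun x y => ?_⟩
  have key : ∀ z : Ext (kk) (ModuleCat.of R M) i,
      z = (z.comp (Ext.mk₀ (ModuleCat.ofHom f)) (add_zero i)).comp (Ext.mk₀ (ModuleCat.ofHom g)) (add_zero i) := by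
    intro z
    have hfg : ModuleCat.ofHom f ≫ ModuleCat.ofHom g = 𝟙 (ModuleCat.of R M) := by ext v; exact h v
    rw [Ext.comp_assoc_of_third_deg_zero, Ext.mk₀_comp_mk₀, hfg, Ext.comp_mk₀_id]
  rw [key x, key y, Subsingleton.elim (x.comp (Ext.mk₀ (ModuleCat.ofHom f)) (add_zero i))]

theorem van_pi {n : ℕ} {i : ℕ} (h : Van R I R i) : Van R I (Fin n → R) i := by
  classical
  refine subsingleton_of_forall_eq 0 fun z => ?_
  have hid : 𝟙 (ModuleCat.of R (Fin n → R)) =
      ∑ j : Fin n, ModuleCat.ofHom (LinearMap.proj j : (Fin n → R) →ₗ[R] R) ≫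
        ModuleCat.ofHom (LinearMap.single R (fun _ : Fin n => R) j) := by
    apply ModuleCat.hom_ext
    refine LinearMap.ext fun v => funext fun l => ?_
    simp [LinearMap.sum_apply, Finset.sum_apply, Pi.single_apply]
  rw [← Ext.comp_mk₀_id z, hid]
  have hlin : ∀ (g : Fin n → (ModuleCat.of R (Fin n → R) ⟶ ModuleCat.of R (Fin n → R))),
      z.comp (Ext.mk₀ (∑ p, g p)) (add_zero i) = ∑ p, z.comp (Ext.mk₀ (g p)) (add_zero i) := fun g =>
    map_sum (((Ext.bilinearCompOfLinear R (kk) (ModuleCat.of R (Fin n → R)) (ModuleCat.of R (Fin n → R)) i 0 i (add_zero i)) z).comp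
      (Ext.linearEquiv₀ (R := R)).symm.toLinearMap) g Finset.univ
  rw [hlin]
  refine Finset.sum_eq_zero fun j _ => ?_
  rw [← Ext.mk₀_comp_mk₀, ← Ext.comp_assoc_of_third_deg_zero,
    Subsingleton.elim (α := Ext (kk) (ModuleCat.of R R) i) (z.comp _ (add_zero i)) 0, Ext.zero_comp]

/-- `depth_I M = d`, in terms of `Ext`. -/
def IsDepth (M : Type u) [AddCommGroup M] [Module R M] (d : ℕ) : Prop :=
  (∀ i < d, Van R I M i) ∧ ¬ Van R I M d

theorem IsDepth.idealDepth_eq [IsNoetherianRing R] {M : Type u} [AddCommGroup M] [Module R M] [Module.Finite R M]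
    {d : ℕ} (h : IsDepth R I M d) : LocCoh.idealDepth I M = d := by
  refine le_antisymm ?_ ((GrothLib.Depth.le_idealDepth_iff_ext I d).2 h.1)
  by_contra hlt
  push Not at hlt
  exact h.2 ((GrothLib.Depth.le_idealDepth_iff_ext I (d + 1)).1 (Order.add_one_le_of_lt hlt) d (by omega))

theorem isDepth_of_idealDepth_eq [IsNoetherianRing R] {M : Type u} [AddCommGroup M] [Module R M] [Module.Finite R M]
    {d : ℕ} (h : LocCoh.idealDepth I M = d) : IsDepth R I M d := by
  refine ⟨(GrothLib.Depth.le_idealDepth_iff_ext I d).1 h.ge, fun hv => ?_⟩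
  have h1 : ((d + 1 : ℕ) : ℕ∞) ≤ LocCoh.idealDepth I M :=
    (GrothLib.Depth.le_idealDepth_iff_ext I (d + 1)).2 fun i hi => by
      rcases Nat.lt_succ_iff_lt_or_eq.1 hi with hi | rfl
      · exact (GrothLib.Depth.le_idealDepth_iff_ext I d).1 h.ge i hi
      · exact hv
  rw [h] at h1
  exact Nat.not_succ_le_self d (by exact_mod_cast h1)

theorem isDepth_free {D : ℕ} (hR : IsDepth R I R D) {M : Type u} [AddCommGroup M] [Module R M] {r : ℕ} (hr : 0 < r)
    (e : M ≃ₗ[R] (Fin r → R)) : IsDepth R I M D := by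
  refine ⟨fun i hi => van_of_retract R I e.toLinearMap e.symm.toLinearMap e.symm_apply_apply
    (van_pi R I (hR.1 i hi)), fun hv => hR.2 ?_⟩
  exact van_of_retract R I (e.symm.toLinearMap ∘ₗ LinearMap.single R (fun _ => R) ⟨0, hr⟩)
    ((LinearMap.proj ⟨0, hr⟩ : (Fin r → R) →ₗ[R] R) ∘ₗ e.toLinearMap) (fun x => by simp) hv

variable {r : ℕ} {K N : Type u} [AddCommGroup K] [Module R K] [AddCommGroup N] [Module R N]
  (f : K →ₗ[R] (Fin r → R)) (g : (Fin r → R) →ₗ[R] N)

/-- the short complex -/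
noncomputable def seq (hfg : LinearMap.range f = LinearMap.ker g) : ShortComplex (ModuleCat.{u} R) :=
  ShortComplex.mk (ModuleCat.ofHom f) (ModuleCat.ofHom g)
    (by ext x; exact hfg.le ⟨x, rfl⟩)

theorem seq_shortExact (hf : Function.Injective f) (hg : Function.Surjective g)
    (hfg : LinearMap.range f = LinearMap.ker g) : (seq R f g hfg).ShortExact := by
  refine ShortComplex.ShortExact.mk' ?_ ?_ ?_
  · rw [ShortComplex.moduleCat_exact_iff]
    intro x hx
    exact hfg.ge hx
  · exact (ModuleCat.mono_iff_injective _).2 hf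
  · exact (ModuleCat.epi_iff_surjective _).2 hg

variable (hf : Function.Injective f) (hg : Function.Surjective g) (hfg : LinearMap.range f = LinearMap.ker g)
include hf hg hfg

theorem van_quot (i : ℕ) (h2 : Van R I (Fin r → R) i) (h1 : Van R I K (i + 1)) : Van R I N i := by
  refine subsingleton_of_forall_eq 0 fun z => ?_
  have hS := seq_shortExact R f g hf hg hfg
  obtain ⟨y, hy⟩ := Ext.covariant_sequence_exact₃ (kk) hS z rfl
    (Subsingleton.elim (α := Ext (kk) (ModuleCat.of R K) (i + 1)) _ _)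
  haveI : Subsingleton (Ext (kk) (seq R f g hfg).X₂ i) := h2
  rw [← hy, Subsingleton.elim y 0, Ext.zero_comp]
  rfl

theorem van_sub (i : ℕ) (h2 : Van R I (Fin r → R) (i + 1)) (h3 : Van R I N i) : Van R I K (i + 1) := by
  refine subsingleton_of_forall_eq 0 fun x => ?_
  have hS := seq_shortExact R f g hf hg hfg
  obtain ⟨z, hz⟩ := Ext.covariant_sequence_exact₁ (kk) hS x
    (Subsingleton.elim (α := Ext (kk) (ModuleCat.of R (Fin r → R)) (i + 1)) _ _) rfl
  haveI : Subsingleton (Ext (kk) (seq R f g hfg).X₃ i) := h3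
  rw [← hz, Subsingleton.elim z 0, Ext.zero_comp]
  rfl

/-- One step below the depth of the ring. -/
theorem isDepth_step {D d : ℕ} (hR : IsDepth R I R D) (hK : IsDepth R I K (d + 1)) (hd : d + 1 < D) :
    IsDepth R I N d :=
  ⟨fun i hi => van_quot R I f g hf hg hfg i (van_pi R I (hR.1 i (by omega))) (hK.1 _ (by omega)),
    fun hv => hK.2 (van_sub R I f g hf hg hfg d (van_pi R I (hR.1 _ hd)) hv)⟩

/-- The step from a free kernel with entries in the ideal. -/
theorem isDepth_top [Module.Finite R K] [Module.Free R K] {D : ℕ} (hR : IsDepth R I R (D + 1))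
    (hK : IsDepth R I K (D + 1)) (hent : ∀ x j, f x j ∈ I) : IsDepth R I N D := by
  refine ⟨fun i hi => van_quot R I f g hf hg hfg i (van_pi R I (hR.1 i (by omega))) (hK.1 _ (by omega)),
    fun hv => hK.2 (subsingleton_of_forall_eq 0 fun x => ?_)⟩
  have hS := seq_shortExact R f g hf hg hfg
  obtain ⟨z, hz⟩ := Ext.covariant_sequence_exact₁ (kk) hS x (comp_eq_zero_of_entries R I f hent x) rfl
  haveI : Subsingleton (Ext (kk) (seq R f g hfg).X₃ D) := hv
  rw [← hz, Subsingleton.elim z 0, Ext.zero_comp]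
  rfl

end GrothLib.GrAB27
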