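import Groth.Agent.Lib.GrAB27.Dual
import Groth.Agent.Lib.GrSyz.Hilbert
import Mathlib.RingTheory.Polynomial.Pochhammer

/-!
# The regularity of a Cohen–Macaulay module is attained at the end of its resolution
-/

set_option autoImplicit false

universe u

open MvPolynomial CategoryTheory Abelian

namespace GrothLib.GrAB27

open GrothLib.GrSyz

section

variable {k : Type u} [Field k] {n : ℕ}
variable {M : Type u} [AddCommGroup M] [Module k M] [Module (MvPolynomial (Fin n) k) M]
  {ℳ : ℤ → Submodule k M} [DirectSum.Decomposition ℳ] [SetLike.GradedSMul (GrSyz.stdGr k (Fin n)) ℳ]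
  (F : GrSyz.FreeRes (GrSyz.stdGr k (Fin n)) ℳ) (hF : F.IsMinimal (GrSyz.irrel (GrSyz.stdGr k (Fin n))).toIdeal)
  {ℓ : ℕ}
  (hExt : ∀ i < ℓ, Subsingleton (Ext (ModuleCat.of (MvPolynomial (Fin n) k) M)
      (ModuleCat.of (MvPolynomial (Fin n) k) (MvPolynomial (Fin n) k)) i))

theorem range_syz_zero : LinearMap.range (syz F 0).subtype = LinearMap.ker F.augLin := by
  rw [Submodule.range_subtype]; rfl

include hExt in
theorem subsingleton_ext_syz : ∀ i j, i + (j + 1) + 1 < ℓ →
    Subsingleton (Ext (ModuleCat.of (MvPolynomial (Fin n) k) (syz F i))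
      (ModuleCat.of (MvPolynomial (Fin n) k) (MvPolynomial (Fin n) k)) (j + 1)) := by
  intro i
  induction i with
  | zero =>
    intro j hj
    exact ext_shift (syz F 0).subtype F.augLin Subtype.val_injective F.aug_surjective (range_syz_zero F) j
      (hExt _ (by omega))
  | succ i ih =>
    intro j hj
    exact ext_shift (syz F (i + 1)).subtype (toSyz F i) Subtype.val_injective (toSyz_surjective F i)
      (range_toSyz_ker F i) j (ih (j + 1) (by omega))

theorem apply_single (φ : (Fin (F.rk 0) → MvPolynomial (Fin n) k) →ₗ[MvPolynomial (Fin n) k] MvPolynomial (Fin n) k)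
    (h : ∀ v, F.augLin v = 0 → φ v = 0) : ∃ ψ : M →ₗ[MvPolynomial (Fin n) k] MvPolynomial (Fin n) k, ψ ∘ₗ F.augLin = φ := by
  refine ⟨(Submodule.liftQ _ φ fun v hv => h v hv) ∘ₗ (LinearMap.quotKerEquivOfSurjective _ F.aug_surjective).symm.toLinearMap, ?_⟩
  refine LinearMap.ext fun v => ?_
  simp only [LinearMap.comp_apply, LinearEquiv.coe_coe]
  have : (LinearMap.quotKerEquivOfSurjective _ F.aug_surjective).symm (F.augLin v) = Submodule.Quotient.mk v := by
    rw [LinearEquiv.symm_apply_eq, LinearMap.quotKerEquivOfSurjective_apply_mk]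
  rw [this, Submodule.liftQ_apply]

include hF hExt in
/-- Below the codimension no row of a differential of a minimal resolution is zero. -/
theorem row_ne_zero (i : ℕ) (hi : i < ℓ) (b : Fin (F.rk i)) : ∃ c, F.d i b c ≠ 0 := by
  by_contra hrow
  push Not at hrow
  let φ : (Fin (F.rk i) → MvPolynomial (Fin n) k) →ₗ[MvPolynomial (Fin n) k] MvPolynomial (Fin n) k := LinearMap.proj b
  have hφ : ∀ v, φ (F.dLin i v) = 0 := fun v => by
    show (Matrix.mulVec (F.d i) v) b = 0
    simp [Matrix.mulVec, dotProduct, hrow]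
  have hφe : φ (Pi.single b 1) = 1 := by simp [φ]
  have one_not_mem : (1 : MvPolynomial (Fin n) k) ∉ (GrSyz.irrel (GrSyz.stdGr k (Fin n))).toIdeal := by
    rw [mem_irrel, map_one]; exact one_ne_zero
  cases i with
  | zero =>
    obtain ⟨ψ, hψ⟩ := apply_single F φ (fun v hv => by
      obtain ⟨w, rfl⟩ := F.exact_zero.le (LinearMap.mem_ker.2 hv)
      exact hφ w)
    haveI := hExt 0 hi
    have : ψ = 0 := congrArg ModuleCat.Hom.hom (Ext.addEquiv₀.symm.injective
      (Subsingleton.elim (Ext.addEquiv₀.symm (ModuleCat.ofHom ψ)) (Ext.addEquiv₀.symm 0)))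
    rw [← hψ, this] at hφe
    simp at hφe
  | succ i =>
    have hker : LinearMap.ker (toSyz F i) ≤ LinearMap.ker φ := by
      rw [← range_toSyz_ker, Submodule.range_subtype, ← range_dLin]
      rintro _ ⟨w, rfl⟩
      exact hφ w
    let ψ := Submodule.liftQ _ φ hker ∘ₗ (LinearMap.quotKerEquivOfSurjective _ (toSyz_surjective F i)).symm.toLinearMap
    have hψ : ∀ v, ψ (toSyz F i v) = φ v := by
      intro v
      simp only [ψ, LinearMap.comp_apply, LinearEquiv.coe_coe]
      have : (LinearMap.quotKerEquivOfSurjective _ (toSyz_surjective F i)).symm (toSyz F i v) = Submodule.Quotient.mk v := by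
        rw [LinearEquiv.symm_apply_eq, LinearMap.quotKerEquivOfSurjective_apply_mk]
      rw [this, Submodule.liftQ_apply]
    have hext : ∃ Φ, Φ ∘ₗ (syz F i).subtype = ψ := by
      cases i with
      | zero =>
        exact exists_extension (syz F 0).subtype F.augLin Subtype.val_injective F.aug_surjective (range_syz_zero F)
          (hExt 1 hi) ψ
      | succ i =>
        exact exists_extension (syz F (i + 1)).subtype (toSyz F i) Subtype.val_injective (toSyz_surjective F i)
          (range_toSyz_ker F i) (subsingleton_ext_syz F hExt i 0 (by omega)) ψ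
    obtain ⟨Φ, hΦ⟩ := hext
    apply one_not_mem
    rw [← hφe, ← hψ, ← hΦ]
    show Φ (F.dLin i (Pi.single b 1)) ∈ _
    rw [pi_eq_sum_univ' (F.dLin i (Pi.single b 1)), map_sum]
    refine Ideal.sum_mem _ fun a _ => ?_
    rw [map_smul]
    refine Ideal.mul_mem_right _ _ ?_
    show Matrix.mulVec (F.d i) (Pi.single b 1) a ∈ _
    rw [Matrix.mulVec_single_one]
    exact hF i a b

include hF hExt in
/-- The regularity is attained at the last term. -/
theorem exists_top_deg (hℓ : F.HasLengthLE ℓ) (ρ : ℤ) (hρ : F.IsGenLE ρ)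
    (hρ' : ∃ (i : ℕ) (b : Fin (F.rk i)), F.deg i b = ρ + i) : ∃ b : Fin (F.rk ℓ), F.deg ℓ b = ρ + ℓ := by
  obtain ⟨i, b, hb⟩ := hρ'
  have hiℓ : i ≤ ℓ := by
    by_contra h
    exact (Nat.pos_iff_ne_zero.1 b.pos) (hℓ i (by omega))
  obtain ⟨t, rfl⟩ := Nat.exists_eq_add_of_le hiℓ
  suffices key : ∀ s ≤ t, ∃ b : Fin (F.rk (i + s)), F.deg (i + s) b = ρ + (i + s : ℕ) from key t le_rfl
  intro s
  induction s with
  | zero => exact fun _ => ⟨b, hb⟩
  | succ s ih =>
    intro hs
    obtain ⟨c₀, hc₀⟩ := ih (by omega)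
    obtain ⟨c, hc⟩ := row_ne_zero F hF hExt (i + s) (by omega) c₀
    refine ⟨c, le_antisymm (hρ _ c) ?_⟩
    by_contra hlt
    push Not at hlt
    have hm := F.d_mem (i + s) c₀ c
    refine hc ?_
    push_cast at hlt hc₀
    rcases lt_trichotomy (F.deg (i + s + 1) c - F.deg (i + s) c₀) 0 with h | h | h
    · exact eq_zero_of_mem_neg h hm
    · rw [h] at hm
      rw [mem_zero_eq_C hm, mem_irrel.1 (hF (i + s) c₀ c), map_zero]
    · exfalso
      change F.deg (i + s + 1) c < _ at hlt
      omega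

end

/-- The binomial coefficient `(x + r choose r)` as a polynomial. -/
noncomputable def binPoly (r : ℕ) : Polynomial ℚ :=
  Polynomial.C (r.factorial : ℚ)⁻¹ * ∏ j ∈ Finset.range r, (Polynomial.X + Polynomial.C ((j : ℚ) + 1))

theorem binPoly_eval_natCast (r t : ℕ) : (binPoly r).eval (t : ℚ) = ((r + t).choose r : ℚ) := by
  have key : ∀ r : ℕ, ∏ j ∈ Finset.range r, ((t : ℚ) + ((j : ℚ) + 1)) = ((t + 1).ascFactorial r : ℚ) := by
    intro r
    induction r with
    | zero => simp
    | succ r ih => rw [Finset.prod_range_succ, ih, Nat.ascFactorial_succ]; push_cast; ring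
  rw [binPoly, Polynomial.eval_mul, Polynomial.eval_prod]
  simp only [Polynomial.eval_C, Polynomial.eval_add, Polynomial.eval_X]
  rw [key, Nat.ascFactorial_eq_factorial_mul_choose, Nat.cast_mul, ← mul_assoc,
    inv_mul_cancel₀ (by exact_mod_cast r.factorial_ne_zero), one_mul, add_comm t r]

theorem binPoly_eval_eq_zero (r : ℕ) (t : ℤ) (h1 : t < 0) (h2 : -(r : ℤ) ≤ t) : (binPoly r).eval (t : ℚ) = 0 := by
  rw [binPoly, Polynomial.eval_mul, Polynomial.eval_prod]
  refine mul_eq_zero_of_right _ (Finset.prod_eq_zero (i := (-t - 1).toNat) (Finset.mem_range.2 (by omega)) ?_)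
  simp only [Polynomial.eval_C, Polynomial.eval_add, Polynomial.eval_X]
  have : (((-t - 1).toNat : ℕ) : ℤ) = -t - 1 := Int.toNat_of_nonneg (by omega)
  have h' : (((-t - 1).toNat : ℕ) : ℚ) = ((-t - 1 : ℤ) : ℚ) := by exact_mod_cast this
  rw [h']; push_cast; ring

theorem binPoly_eval_ne_zero (r : ℕ) : (binPoly r).eval ((-(r : ℤ) - 1 : ℤ) : ℚ) ≠ 0 := by
  rw [binPoly, Polynomial.eval_mul, Polynomial.eval_prod]
  refine mul_ne_zero (by simp [Nat.factorial_ne_zero]) (Finset.prod_ne_zero_iff.2 fun j hj => ?_)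
  simp only [Polynomial.eval_C, Polynomial.eval_add, Polynomial.eval_X]
  rw [Finset.mem_range] at hj
  have : (j : ℚ) < r := by exact_mod_cast hj
  push_cast
  intro h
  linarith

variable {k : Type u} [Field k] {r : ℕ}
variable {M : Type u} [AddCommGroup M] [Module k M] [Module (MvPolynomial (Fin (r + 1)) k) M]
  [IsScalarTower k (MvPolynomial (Fin (r + 1)) k) M]
  {ℳ : ℤ → Submodule k M} [DirectSum.Decomposition ℳ] [SetLike.GradedSMul (GrSyz.stdGr k (Fin (r + 1))) ℳ]
  (F : GrSyz.FreeRes (GrSyz.stdGr k (Fin (r + 1))) ℳ)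

/-- Hilbert function and Hilbert polynomial differ below the bound given by the top degree of the last term. -/
theorem hilbert_ne {ℓ : ℕ} (hℓ : F.HasLengthLE ℓ) (ρ : ℤ) (hρ : F.IsGenLE ρ)
    (htop : ∃ b : Fin (F.rk ℓ), F.deg ℓ b = ρ + ℓ) (P : Polynomial ℚ)
    (hP : ∃ d₁ : ℤ, ∀ d : ℤ, d₁ ≤ d → ((Module.finrank k ↥(ℳ d) : ℤ) : ℚ) = P.eval (d : ℚ)) :
    ((Module.finrank k ↥(ℳ (ρ + ℓ - r - 1)) : ℤ) : ℚ) ≠ P.eval ((ρ + ℓ - r - 1 : ℤ) : ℚ) := by
  classical
  obtain ⟨d₁, hd₁⟩ := hP
  let Q : Polynomial ℚ := ∑ i ∈ Finset.range (ℓ + 1), Polynomial.C ((-1 : ℚ) ^ i) *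
    ∑ b : Fin (F.rk i), (binPoly r).comp (Polynomial.X - Polynomial.C (F.deg i b : ℚ))
  have hQ : ∀ d : ℤ, Q.eval (d : ℚ) = ∑ i ∈ Finset.range (ℓ + 1), (-1 : ℚ) ^ i *
      ∑ b : Fin (F.rk i), (binPoly r).eval ((d - F.deg i b : ℤ) : ℚ) := fun d => by
    simp only [Q, Polynomial.eval_finset_sum, Polynomial.eval_mul, Polynomial.eval_C, Polynomial.eval_comp,
      Polynomial.eval_sub, Polynomial.eval_X]
    refine Finset.sum_congr rfl fun i _ => ?_
    congr 1
    refine Finset.sum_congr rfl fun b _ => ?_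
    push_cast; ring_nf
  have hH : ∀ d : ℤ, ((Module.finrank k (ℳ d) : ℤ) : ℚ) = ∑ i ∈ Finset.range (ℓ + 1), (-1 : ℚ) ^ i *
      ∑ b : Fin (F.rk i), (if F.deg i b ≤ d then (binPoly r).eval ((d - F.deg i b : ℤ) : ℚ) else 0) := fun d => by
    rw [finrank_eq_choose_sum F hℓ d]
    push_cast
    refine Finset.sum_congr rfl fun i _ => ?_
    congr 1
    refine Finset.sum_congr rfl fun b _ => ?_
    split_ifs with h
    · rw [← binPoly_eval_natCast]
      congr 1
      have : (((d - F.deg i b).toNat : ℕ) : ℤ) = d - F.deg i b := Int.toNat_of_nonneg (by omega)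
      exact_mod_cast this
    · rfl
  have hPQ : P = Q := by
    refine Polynomial.eq_of_infinite_eval_eq _ _ ?_
    refine Set.infinite_of_injective_forall_mem (f := fun t : ℕ => ((max d₁ (ρ + ℓ) + t : ℤ) : ℚ)) ?_ ?_
    · intro a b h
      simpa using h
    · intro t
      show P.eval _ = Q.eval _
      rw [← hd₁ _ (by omega), hH, hQ]
      refine Finset.sum_congr rfl fun i hi => ?_
      congr 1
      refine Finset.sum_congr rfl fun b _ => ?_
      rw [if_pos]
      have := hρ i b
      rw [Finset.mem_range] at hi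
      omega
  set d := ρ + ℓ - r - 1 with hd
  have hdiff : ∀ i ∈ Finset.range (ℓ + 1), ∀ b : Fin (F.rk i),
      (if F.deg i b ≤ d then (binPoly r).eval ((d - F.deg i b : ℤ) : ℚ) else 0) -
        (binPoly r).eval ((d - F.deg i b : ℤ) : ℚ) =
      if i = ℓ ∧ F.deg i b = ρ + ℓ then -(binPoly r).eval ((-(r : ℤ) - 1 : ℤ) : ℚ) else 0 := by
    intro i hi b
    rw [Finset.mem_range] at hi
    have h1 := hρ i b
    by_cases htopb : i = ℓ ∧ F.deg i b = ρ + ℓ
    · rw [if_pos htopb, if_neg (by omega), zero_sub, show d - F.deg i b = -(r : ℤ) - 1 by omega]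
    · rw [if_neg htopb]
      split_ifs with h
      · exact sub_self _
      · rw [binPoly_eval_eq_zero r _ (by omega) (by omega), sub_zero]
  intro heq
  rw [hPQ, hH, hQ, ← sub_eq_zero, ← Finset.sum_sub_distrib] at heq
  simp only [← mul_sub, ← Finset.sum_sub_distrib] at heq
  rw [Finset.sum_congr rfl fun i hi => by rw [Finset.sum_congr rfl fun b _ => hdiff i hi b],
    Finset.sum_range_succ, Finset.sum_eq_zero (s := Finset.range ℓ) (fun i hi => by
      rw [Finset.mem_range] at hi
      rw [Finset.sum_eq_zero fun b _ => if_neg (by omega), mul_zero]),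
    zero_add] at heq
  simp only [true_and, Finset.sum_ite, Finset.sum_const_zero, add_zero, Finset.sum_const, nsmul_eq_mul,
    mul_eq_zero, pow_eq_zero_iff', neg_eq_zero, one_ne_zero, false_and, false_or] at heq
  obtain ⟨b, hb⟩ := htop
  rcases heq with h | h
  · rw [Nat.cast_eq_zero, Finset.card_eq_zero, Finset.filter_eq_empty_iff] at h
    exact h (Finset.mem_univ b) hb
  · exact binPoly_eval_ne_zero r h

end GrothLib.GrAB27
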